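import Groth.Agent.PtdP1Lib.Points
import Groth.Agent.CurveP1Lib.GeomP1
import Groth.Agent.CurveP1Lib.Rational
import Groth.Agent.CurveP1Lib.Transport
import Groth.Agent.S4471
import Groth.Agent.S10829
import Groth.Agent.ProjTwist.Vanish
import Groth.Agent.REqLib.P1Irred
import Groth.Agent.ProjSmoothLib.Basic
import Groth.Prelude.Def_StCurv

/-! Pointed genus zero curves over fields. -/

set_option autoImplicit false
set_option backward.isDefEq.respectTransparency false
set_option backward.isDefEq.respectTransparency.types false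

universe u

open CategoryTheory CategoryTheory.Limits AlgebraicGeometry
open Groth.Agent

noncomputable section

namespace Groth.Agent.PtdP1Lib

theorem genus_P1 (k : Type u) [Field k] : Curv2.genus k (CohB1.ProjSpace 1 k) = 0 := by
  let ψ : Coh.structureModule (CohB1.ProjSpace 1 k) ≅ Twist.twistProjSpace 1 k 0 :=
    @asIso _ _ _ _ (Groth.Agent.ProjCoh.unitToTwist (CohB1.polyGrading 1 k)) Groth.Agent.ProjCoh.isIso_unitToTwist
  rw [Curv2.genus, Groth.Agent.ShBCLib.finrank_HH_iso (K := k) ψ 1]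
  haveI : Subsingleton (Coh.HH (CohB1.ProjSpace 1 k) (Twist.twistProjSpace 1 k 0) 1) :=
    Groth.Agent.ProjTwist.subsingleton_HH_pos (n := 1) (R := k) 0 0 (Or.inl (by norm_num))
  exact Module.finrank_zero_of_subsingleton

/-- The projective line is a curve of genus zero. -/
theorem isCurveOfGenus_P1 (K : Type u) [Field K] :
    ModFun.IsCurveOfGenus 0 (CohB1.ProjSpace.toSpec 1 K) := by
  have key : ∀ (L : Type u) [Field L] (y : Spec (CommRingCat.of L) ⟶ Spec (CommRingCat.of K)) (T : Scheme.{u})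
      (fst : T ⟶ CohB1.ProjSpace 1 K) (snd : T ⟶ Spec (CommRingCat.of L)),
      IsPullback fst snd (CohB1.ProjSpace.toSpec 1 K) y →
      ∃ e : T ≅ CohB1.ProjSpace 1 L, e.hom ≫ CohB1.ProjSpace.toSpec 1 L = snd := by
    intro L _ y T fst snd h
    letI : Algebra K L := (Spec.preimage y).hom.toAlgebra
    obtain ⟨g, hg, -⟩ := S4471.exists_bc 1 K L 0
    have hy : Spec.map (CommRingCat.ofHom (algebraMap K L)) = y := by
      rw [RingHom.algebraMap_toAlgebra, CommRingCat.ofHom_hom, Spec.map_preimage]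
    rw [hy] at hg
    exact ⟨h.isoIsPullback _ _ hg, h.isoIsPullback_hom_snd _ _ hg⟩
  refine ⟨ProjSmoothLib.smooth_toSpec 1 K, inferInstance, ⟨fun L _ y T fst snd h => ?_⟩, fun Ω _ _ t X i q h => ?_⟩
  · obtain ⟨e, -⟩ := key L y T fst snd h
    haveI : IsIntegral (CohB1.ProjSpace 1 L) := REqLib.isIntegral_proj_domain 1 L
    exact e.inv.homeomorph.surjective.irreducibleSpace e.inv.homeomorph.continuous
  · obtain ⟨e, he⟩ := key Ω t X i q h
    refine ⟨?_, ?_⟩
    · rw [e.hom.homeomorph.isHomeomorph.topologicalKrullDim_eq]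
      exact_mod_cast S10829.result Ω 1
    · letI : X.Over (Spec (CommRingCat.of Ω)) := ⟨q⟩
      show Module.finrank Ω _ = 0
      rw [← ShBCLib.finrank_HH_iso (K := Ω) (DCohLib.pullStructureIso e.hom) 1,
        CurveP1Lib.finrank_HH_pullback e.hom he]
      exact genus_P1 Ω

/-- A genus zero curve with a rational point is the projective line. -/
theorem exists_iso_P1_of_curveOfGenus_zero {L : Type u} [Field L] {C : Scheme.{u}} (f : C ⟶ Spec (CommRingCat.of L))
    (hC : ModFun.IsCurveOfGenus 0 f) (s : Spec (CommRingCat.of L) ⟶ C) (hs : s ≫ f = 𝟙 _) :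
    ∃ e : C ≅ CohB1.ProjSpace 1 L, e.hom ≫ CohB1.ProjSpace.toSpec 1 L = f := by
  obtain ⟨hsm, hpr, hirr, hgen⟩ := hC
  letI : C.Over (Spec (CommRingCat.of L)) := ⟨f⟩
  haveI : IsProper (C ↘ Spec (CommRingCat.of L)) := hpr
  haveI : Smooth (C ↘ Spec (CommRingCat.of L)) := hsm
  haveI : IrreducibleSpace C := hirr.geometrically_irreducibleSpace (𝟙 _) (𝟙 _) f
    (IsPullback.of_horiz_isIso ⟨by simp⟩)
  haveI : IsIntegral C := CurveLib.isIntegral_of_smooth L
  let Ω := AlgebraicClosure L
  obtain ⟨hd, hg⟩ := hgen Ω (Spec.map (CommRingCat.ofHom (algebraMap L Ω))) (Curv2.bc L C Ω) (Curv2.bcFst L C Ω)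
    (Curv2.bc L C Ω ↘ Spec (CommRingCat.of Ω)) (IsPullback.of_hasPullback _ _)
  have hdim : topologicalKrullDim C = 1 := (CurveP1Lib.dim_bc L Ω).symm.trans hd
  have hgenus : Curv2.genus L C = 0 := (CurveP1Lib.finrank_HH_bc_structure L Ω 1).symm.trans hg
  haveI := VBLib.isRegCurve_of_smooth (X := C) L hdim.le
  haveI := VBLib.IsRegCurve.pir (X := C) (s default)
  exact CurveP1Lib.exists_iso_P1_of_section hdim hgenus s hs inferInstance

end Groth.Agent.PtdP1Lib
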