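import Groth.Agent.PnAutLib.Lin
import Groth.Agent.ProjMap.Bilin
import Mathlib

/-! Rational points of the projective line and automorphisms moving them. -/

set_option autoImplicit false
set_option backward.isDefEq.respectTransparency false

universe u

open CategoryTheory AlgebraicGeometry MvPolynomial HomogeneousLocalization
open Groth.Agent

noncomputable section

namespace Groth.Agent.PtdP1Lib

variable {n : ℕ} {K : Type u} [Field K]

/-- Rational points are given by coordinates. -/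
theorem exists_eq_point (s : Spec (CommRingCat.of K) ⟶ CohB1.ProjSpace n K)
    (hs : s ≫ CohB1.ProjSpace.toSpec n K = 𝟙 _) :
    ∃ (v : Fin (n + 1) → K) (c : Fin (n + 1)) (hc : IsUnit (v c)), s = ProjMap.point (R := K) v c hc := by
  obtain ⟨c, hc⟩ := ProjMap.exists_chart K (s default)
  have hr : Set.range s ⊆ Set.range (ProjMap.chart (R := K) c) := by
    rintro _ ⟨z, rfl⟩
    rw [Subsingleton.elim z default]
    exact hc
  let j := IsOpenImmersion.lift (ProjMap.chart (R := K) c) s hr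
  have hj : j ≫ ProjMap.chart (R := K) c = s := IsOpenImmersion.lift_fac _ _ _
  have hφ : ProjMap.IsAlg (R := K) (A := K) c (Spec.preimage j).hom := by
    refine ProjMap.isAlg_of_toSpec c _ ?_
    rw [CommRingCat.ofHom_hom, Spec.map_preimage, ← Category.assoc, hj, hs, Algebra.algebraMap_self,
      CommRingCat.ofHom_id, Spec.map_id]
  refine ⟨ProjMap.coords c (Spec.preimage j).hom, c, by simp, ?_⟩
  rw [ProjMap.point_coords c _ hφ, CommRingCat.ofHom_hom, Spec.map_preimage, hj]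

/-- Two different points of the line have independent coordinates. -/
theorem det_ne_zero {v w : Fin 2 → K} {c d : Fin 2} (hc : IsUnit (v c)) (hd : IsUnit (w d))
    (h : ProjMap.point (R := K) v c hc ≠ ProjMap.point w d hd) :
    v 0 * w 1 - v 1 * w 0 ≠ 0 := by
  intro h0
  apply h
  have hv : v c ≠ 0 := hc.ne_zero
  have hw : w d ≠ 0 := hd.ne_zero
  have hs : ∀ i, w i = w c / v c * v i := fun i => by
    rw [div_mul_eq_mul_div, eq_div_iff hv]
    fin_cases c <;> fin_cases i <;> simp at * <;> first | linear_combination h0 | linear_combination -h0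
  have hwc : IsUnit (w c) := IsUnit.mk0 _ fun h1 => hw (by rw [hs d, h1, zero_div, zero_mul])
  rw [ProjMap.point_chart w d c hd hwc, ProjMap.point_smul v w _ hs c hc hwc]

/-- The coordinates of a point extend to a basis. -/
theorem exists_second {v : Fin 2 → K} {c : Fin 2} (hc : IsUnit (v c)) :
    ∃ (w : Fin 2 → K) (d : Fin 2) (_ : IsUnit (w d)), v 0 * w 1 - v 1 * w 0 ≠ 0 := by
  by_cases h : v 0 = 0
  · refine ⟨![1, 0], 0, by simp, ?_⟩
    fin_cases c
    · exact absurd h hc.ne_zero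
    · simpa using hc.ne_zero
  · exact ⟨![0, 1], 1, by simp, by simpa using h⟩

/-- The projective line has an automorphism moving an independent pair of points to another one. -/
theorem exists_aut {v₁ v₂ w₁ w₂ : Fin 2 → K} (hv : v₁ 0 * v₂ 1 - v₁ 1 * v₂ 0 ≠ 0)
    (hw : w₁ 0 * w₂ 1 - w₁ 1 * w₂ 0 ≠ 0) {c₁ c₂ d₁ d₂ : Fin 2} (hc₁ : IsUnit (v₁ c₁)) (hc₂ : IsUnit (v₂ c₂))
    (hd₁ : IsUnit (w₁ d₁)) (hd₂ : IsUnit (w₂ d₂)) :
    ∃ e : CohB1.ProjSpace 1 K ≅ CohB1.ProjSpace 1 K, e.hom ≫ CohB1.ProjSpace.toSpec 1 K = CohB1.ProjSpace.toSpec 1 K ∧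
      ProjMap.point (R := K) v₁ c₁ hc₁ ≫ e.hom = ProjMap.point w₁ d₁ hd₁ ∧
      ProjMap.point (R := K) v₂ c₂ hc₂ ≫ e.hom = ProjMap.point w₂ d₂ hd₂ := by
  let V : Matrix (Fin 2) (Fin 2) K := !![v₁ 0, v₂ 0; v₁ 1, v₂ 1]
  let W : Matrix (Fin 2) (Fin 2) K := !![w₁ 0, w₂ 0; w₁ 1, w₂ 1]
  have hV : V.det ≠ 0 := by simpa [V, Matrix.det_fin_two, mul_comm (v₂ 0)] using hv
  have hW : W.det ≠ 0 := by simpa [W, Matrix.det_fin_two, mul_comm (w₂ 0)] using hw
  let M : GL (Fin 2) K := Matrix.GeneralLinearGroup.mkOfDetNeZero W hW * (Matrix.GeneralLinearGroup.mkOfDetNeZero V hV)⁻¹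
  have hMV : (M : Matrix (Fin 2) (Fin 2) K) * V = W := by
    have h : M * Matrix.GeneralLinearGroup.mkOfDetNeZero V hV = Matrix.GeneralLinearGroup.mkOfDetNeZero W hW :=
      inv_mul_cancel_right _ _
    exact congrArg Units.val h
  have hcol : ∀ b, Matrix.mulVec (M : Matrix (Fin 2) (Fin 2) K) (fun i => V i b) = fun i => W i b := fun b => by
    funext i
    rw [← hMV]
    rfl
  have hV1 : (fun i => V i 0) = v₁ := by funext i; fin_cases i <;> rfl
  have hV2 : (fun i => V i 1) = v₂ := by funext i; fin_cases i <;> rfl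
  have hW1 : (fun i => W i 0) = w₁ := by funext i; fin_cases i <;> rfl
  have hW2 : (fun i => W i 1) = w₂ := by funext i; fin_cases i <;> rfl
  refine ⟨⟨PnAutLib.Lin M, PnAutLib.Lin M⁻¹, ?_, ?_⟩, PnAutLib.toSpec_Lin M, ?_, ?_⟩
  · rw [← PnAutLib.Lin_mul, inv_mul_cancel, PnAutLib.Lin_one]
  · rw [← PnAutLib.Lin_mul, mul_inv_cancel, PnAutLib.Lin_one]
  · refine PnAutLib.point_Lin (A := K) M v₁ c₁ hc₁ w₁ ?_ d₁ hd₁
    rw [Algebra.algebraMap_self, ← hV1, ← hW1]
    simpa using hcol 0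
  · refine PnAutLib.point_Lin (A := K) M v₂ c₂ hc₂ w₂ ?_ d₂ hd₂
    rw [Algebra.algebraMap_self, ← hV2, ← hW2]
    simpa using hcol 1

/-- At most two distinct rational points of the line can be moved to any others. -/
theorem exists_aut_sections {m : ℕ} (hm : m ≤ 2) (s t : Fin m → (Spec (CommRingCat.of K) ⟶ CohB1.ProjSpace 1 K))
    (hs : ∀ i, s i ≫ CohB1.ProjSpace.toSpec 1 K = 𝟙 _) (ht : ∀ i, t i ≫ CohB1.ProjSpace.toSpec 1 K = 𝟙 _)
    (hs' : Function.Injective s) (ht' : Function.Injective t) :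
    ∃ e : CohB1.ProjSpace 1 K ≅ CohB1.ProjSpace 1 K, e.hom ≫ CohB1.ProjSpace.toSpec 1 K = CohB1.ProjSpace.toSpec 1 K ∧
      ∀ i, s i ≫ e.hom = t i := by
  choose v c hc hv using fun i => exists_eq_point (s i) (hs i)
  choose w d hd hw using fun i => exists_eq_point (t i) (ht i)
  interval_cases m
  · exact ⟨Iso.refl _, Category.id_comp _, fun i => i.elim0⟩
  · obtain ⟨v', c', hc', hdv⟩ := exists_second (hc 0)
    obtain ⟨w', d', hd', hdw⟩ := exists_second (hd 0)
    obtain ⟨e, he, h1, -⟩ := exists_aut hdv hdw (hc 0) hc' (hd 0) hd'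
    exact ⟨e, he, fun i => by obtain rfl : i = 0 := Subsingleton.elim _ _; rw [hv, hw, h1]⟩
  · have hdv := det_ne_zero (hc 0) (hc 1) (fun h => absurd (hs' (((hv 0).trans h).trans (hv 1).symm)) (by decide))
    have hdw := det_ne_zero (hd 0) (hd 1) (fun h => absurd (ht' (((hw 0).trans h).trans (hw 1).symm)) (by decide))
    obtain ⟨e, he, h1, h2⟩ := exists_aut hdv hdw (hc 0) (hc 1) (hd 0) (hd 1)
    refine ⟨e, he, fun i => ?_⟩
    rw [hv, hw]
    fin_cases i
    · exact h1
    · exact h2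

/-- The standard pair of rational points. -/
def stdPt (i : Fin 2) : Spec (CommRingCat.of K) ⟶ CohB1.ProjSpace 1 K :=
  ProjMap.point (R := K) (Pi.single i (1 : K)) i (by simp)

theorem stdPt_toSpec (i : Fin 2) : stdPt (K := K) i ≫ CohB1.ProjSpace.toSpec 1 K = 𝟙 _ := by
  rw [stdPt, ProjMap.point_toSpec, Algebra.algebraMap_self, CommRingCat.ofHom_id, Spec.map_id]

theorem stdPt_ne {i j : Fin 2} (h : i ≠ j) (z : Spec (CommRingCat.of K)) :
    stdPt (K := K) i z ≠ stdPt (K := K) j z := by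
  have key : ∀ l, z ∈ stdPt (K := K) l ⁻¹ᵁ Proj.basicOpen (CohB1.polyGrading 1 K) (X i) ↔ l = i := fun l => by
    rw [stdPt, ProjMap.point_preimage_basicOpen _ _ _ one_pos (ProjMap.X_mem i), aeval_X]
    rcases eq_or_ne l i with rfl | hl
    · simp
    · simp [hl.symm, hl]
  intro heq
  have hi := (key i).2 rfl
  refine h ((key j).1 ?_).symm
  exact Set.mem_preimage.2 ((congrArg
    (fun p : CohB1.ProjSpace 1 K => p ∈ (Proj.basicOpen (CohB1.polyGrading 1 K) (X i) : (CohB1.ProjSpace 1 K).Opens)) heq).mp hi)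

end Groth.Agent.PtdP1Lib
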